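import Groth.Agent.ShStab.K114.Twists
import Groth.Agent.Dcoh.Restrict
import Groth.Agent.Coherent.K57.HypSeq
import Groth.Agent.CurvesC.DualDeg

/-!
# Ideal sheaves of finite closed subschemes, twisted; sections of `O(1)`
-/

set_option autoImplicit false
universe u
open CategoryTheory CategoryTheory.Limits AlgebraicGeometry Opposite TopologicalSpace Polynomial

namespace K114.IdealTw

open Groth.Agent.Fga.PicMon Groth.Agent
open ShStab StabCat
open Groth.Agent.CycB.StalkExact Groth.Agent.Divis.StalkMod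
open K848.Rank K848.Hull K848.Poly K848.HB K848.TF K848.Dim K848.Stab K848.Hartogs K848.PicOne K848.Extn K848.Hull2
open K114.Twists

theorem dim_le_zero_of_finite {X : Scheme.{u}} [JacobsonSpace X] {Z : Set X} (hZ : IsClosed Z)
    (hf : Z.Finite) : topologicalKrullDim Z ≤ 0 := by
  have h1 : JacobsonSpace Z := JacobsonSpace.of_isClosedEmbedding hZ.isClosedEmbedding_subtypeVal
  have h2 : Finite Z := hf
  have h3 : DiscreteTopology Z := inferInstance
  exact topologicalKrullDim_zero_of_discreteTopology _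

section sec

variable {X : Scheme.{u}}

open Groth.Agent.Fdesc.LocGen in
theorem exists_section [IsIntegral X] {r : ℕ} {R : Type u} [CommRing R] (i : X ⟶ CohB1.ProjSpace r R) :
    ∃ s : Coh.structureModule X ⟶ (Scheme.Modules.pullback i).obj (Twist.twistProjSpace r R 1), s ≠ 0 := by
  let Fr := (Ega3B.ProjFrame.frameProj r R).pull i
  obtain ⟨j, hj⟩ : ∃ j, genericPoint X ∈ Fr.W j := by
    have h := Fr.cov
    exact Opens.mem_iSup.1 (h ▸ (trivial : genericPoint X ∈ (⊤ : X.Opens)))
  refine ⟨(Dcoh.Restrict.unitEquiv _).symm (Fr.s j), fun h => ?_⟩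
  have h1 : Fr.s j = 0 := by
    rw [← (Dcoh.Restrict.unitEquiv _).apply_symm_apply (Fr.s j), h, map_zero]
  have h2 := Fr.gen j
  rw [h1] at h2
  have : Nonempty (Fr.W j) := ⟨⟨_, hj⟩⟩
  have h3 : Nontrivial Γ(X, Fr.W j) := Scheme.component_nontrivial _ _
  obtain ⟨a, b, hab⟩ := h3
  refine hab ((h2 (Fr.W j) le_rfl).1 ?_)
  have h4 : res ((Scheme.Modules.pullback i).obj (Twist.twistProjSpace r R 1)) (le_refl (Fr.W j))
      (res ((Scheme.Modules.pullback i).obj (Twist.twistProjSpace r R 1)) (le_top : Fr.W j ≤ ⊤) 0) = 0 := by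
    rw [map_zero, map_zero]
  simp only [h4, smul_zero]

end sec

section ideal

variable (k : Type u) [Field k] {X : Scheme.{u}} [X.Over (Spec (CommRingCat.of k))]
  [IsProper (X ↘ Spec (CommRingCat.of k))] [IsIntegral X] {L : X.Modules} {n : ℕ}

/-- numerical facts for a mono with cokernel of dimension `≤ 0` into an invertible module -/
theorem facts_mono (hL : CohB1.IsAmple L) (hn : topologicalKrullDim X = n) (h2 : 2 ≤ n)
    {N A Q : X.Modules} (hA : PicF.IsInvertible A) (j : N ⟶ A) (q : A ⟶ Q) (w : j ≫ q = 0)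
    (hS : (ShortComplex.mk j q w).ShortExact) (hN : Coh.IsCoh N)
    (hQ : topologicalKrullDim (CohB1.support Q) ≤ 0) :
    TorSh.IsTorsionFree N ∧ rk N = 1 ∧ alpha (n - 1) (hp k L N) = alpha (n - 1) (hp k L A) := by
  have := Groth.Agent.Fga.SnapperTwist.isNoetherian_of_proper k X
  have := hS.mono_f
  have := hS.epi_g
  have hAc := isCoh_of_isInvertible hA
  have hQc : Coh.IsCoh Q := by
    have h := Groth.Agent.PerfA.CohSerre.isCoh_cokernel j hN.1 hAc
    exact Groth.Agent.PerfA.CohSerre.isCoh_of_iso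
      (IsColimit.coconePointUniqueUpToIso hS.gIsCokernel (cokernelIsCokernel j)).symm h
  have hα : ∀ i : ℕ, 0 < i → alpha i (hp k L Q) = 0 := fun i hi =>
    alpha_hp_eq_zero k hL.1 hQc (hQ.trans_lt (by exact_mod_cast hi))
  have hQr : rk Q = 0 := by
    have h3 := alpha_rk k hL.1 hn hQc
    rw [hα n (by omega)] at h3
    have h4 := alpha_O_pos k hL hn
    have h5 : (rk Q : ℚ) = 0 := by
      rcases mul_eq_zero.1 h3.symm with h | h
      · exact h
      · exact absurd h h4.ne'
    exact_mod_cast h5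
  refine ⟨isTorsionFree_of_mono j (isTorsionFree_of_isInvertible hA), ?_, ?_⟩
  · have h3 := rk_shortExact hS hAc
    dsimp only at h3
    rw [rk_structureModule_of_isInvertible hA, hQr] at h3
    omega
  · have h3 := hp_add k hL.1 hS hN hAc hQc
    dsimp only at h3
    rw [h3, alpha_add, hα (n - 1) (by omega), add_zero]

omit [IsIntegral X] in
theorem idealModι_comp (Z : X.IdealSheafData) : ClSub.idealModι Z ≫ ClSub.toSubscheme Z = 0 := kernel.condition _

omit [IsIntegral X] in
/-- the twist of the ideal sequence -/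
theorem shortExact_ideal (Z : X.IdealSheafData) {A : X.Modules} (hA : PicF.IsInvertible A) :
    (ShortComplex.mk ((DCoh.tensorRightMod A).map (ClSub.idealModι Z)) ((DCoh.tensorRightMod A).map (ClSub.toSubscheme Z))
      (by rw [← Functor.map_comp, idealModι_comp, Functor.map_zero])).ShortExact := by
  have h := Groth.Agent.PerfB.TensInv.preservesFiniteLimits_of_isInvertible hA
  exact (K57.HypSeq.idealSeq_shortExact Z).map_of_exact (DCoh.tensorRightMod A)

omit [IsIntegral X] in
theorem nonempty_unit_tensor (A : X.Modules) :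
    Nonempty ((DCoh.tensorRightMod A).obj (Coh.structureModule X) ≅ A) :=
  (mc_eq_iff (CohB1.tensorMod (Coh.structureModule X) A) A).1 (by rw [mc_tensor, mc_one, one_mul])

omit [IsIntegral X] in
include k in
/-- the twist of the structure sheaf of a finite closed subscheme -/
theorem dim_quot (Z : X.IdealSheafData) (hZ : (Z.support : Set X).Finite) {A : X.Modules} (hA : PicF.IsInvertible A) :
    topologicalKrullDim (CohB1.support ((DCoh.tensorRightMod A).obj (ClSub.quotMod Z))) ≤ 0 := by
  have := Groth.Agent.Fga.SnapperTwist.isNoetherian_of_proper k X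
  have : JacobsonSpace X := LocallyOfFiniteType.jacobsonSpace (X ↘ Spec (CommRingCat.of k))
  have hs1 : CohB1.support (CohB1.tensorMod (ClSub.quotMod Z) A) ⊆ CohB1.support (ClSub.quotMod Z) :=
    Groth.Agent.Fga.TwistCoh.support_tensor_subset hA
  have hs2 : CohB1.support (ClSub.quotMod Z) ⊆ (Z.support : Set X) :=
    VarietyB.DegCartier.support_quotMod_subset Z
  exact (Fga.DimLt.topologicalKrullDim_mono (hs1.trans hs2)).trans
      (dim_le_zero_of_finite Z.support.isClosed hZ)

omit [IsIntegral X] in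
theorem isInvertible_of_iso {L M : X.Modules} (e : L ≅ M) (hL : PicF.IsInvertible L) : PicF.IsInvertible M := fun x => by
  obtain ⟨U, hx, ⟨t⟩⟩ := hL x
  exact ⟨U, hx, ⟨(Scheme.Modules.restrictFunctor U.ι).mapIso e.symm ≪≫ t⟩⟩

/-- numerical facts for the twisted ideal sheaf of a finite closed subscheme -/
theorem facts_ideal (hL : CohB1.IsAmple L) (hn : topologicalKrullDim X = n) (h2 : 2 ≤ n)
    (Z : X.IdealSheafData) (hZ : (Z.support : Set X).Finite) {A : X.Modules} (hA : PicF.IsInvertible A) :
    Coh.IsCoh (CohB1.tensorMod (ClSub.idealMod Z) A) ∧ TorSh.IsTorsionFree (CohB1.tensorMod (ClSub.idealMod Z) A) ∧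
      rk (CohB1.tensorMod (ClSub.idealMod Z) A) = 1 ∧
      alpha (n - 1) (hp k L (CohB1.tensorMod (ClSub.idealMod Z) A)) = alpha (n - 1) (hp k L A) := by
  have := Groth.Agent.Fga.SnapperTwist.isNoetherian_of_proper k X
  obtain ⟨e⟩ := nonempty_unit_tensor A
  have hA' := isInvertible_of_iso e.symm hA
  have hc : Coh.IsCoh (CohB1.tensorMod (ClSub.idealMod Z) A) :=
    Groth.Agent.Fga.TwistCoh.isCoh_tensor (CurvesC.DualDeg.isCoh_idealMod Z) hA
  have h3 := facts_mono k hL hn h2 hA' _ _ _ (shortExact_ideal Z hA) hc (dim_quot k Z hZ hA)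
  rw [hp_iso k hL.1 (isCoh_of_isInvertible hA) e.symm] at h3
  exact ⟨hc, h3⟩

end ideal

end K114.IdealTw
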