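import Groth.Agent.Surf.K461.SerreDual
import Groth.Agent.ProjDual.K271.ExtDualLin

/-!
# `Ext^m(F, L) = H^p(F ⊗ L⁻¹)^*` on a smooth proper scheme with trivial canonical sheaf
-/

set_option autoImplicit false

universe w u

open CategoryTheory CategoryTheory.Limits AlgebraicGeometry

attribute [local instance] HasDerivedCategory.standard

namespace K114.ExtDualTw

open Groth.Agent Groth.Agent.CurvesC Groth.Agent.CurvesC.RepX Groth.Agent.CurvesC.DualLin

variable (k : Type u) [Field k] {X : Scheme.{u}} [X.Over (Spec (CommRingCat.of k))]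

section LinMod

attribute [local instance] LinMod.linearModules

section Equivalence

variable (T : X.Modules ⥤ X.Modules) [T.Additive] [T.Linear k] [PreservesFiniteLimits T]
  [PreservesFiniteColimits T] [T.IsEquivalence]

/-- `Hom_D(F, W[m]) = Hom_D(T F, W'[m])` for an exact linear equivalence `T` with `T W = W'`. -/
theorem equiv_of_equivalence {F W W' : X.Modules} (e : T.obj W ≅ W') (m : ℕ) :
    Nonempty ((DCoh.inD X F ⟶ (DCoh.inD X W)⟦(m : ℤ)⟧) ≃ₗ[k]
      (DCoh.inD X (T.obj F) ⟶ (DCoh.inD X W')⟦(m : ℤ)⟧)) := by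
  have := Fdesc.SubDer.isEquivalence_mapDerivedCategory T
  let E1 : (DCoh.inD X F ⟶ (DCoh.inD X W)⟦(m : ℤ)⟧) ≃ₗ[k]
      (T.mapDerivedCategory.obj (DCoh.inD X F) ⟶ T.mapDerivedCategory.obj ((DCoh.inD X W)⟦(m : ℤ)⟧)) :=
    LinearEquiv.ofBijective (Functor.mapLinearMap k T.mapDerivedCategory)
      ⟨T.mapDerivedCategory.map_injective, T.mapDerivedCategory.map_surjective⟩
  let i1 : T.mapDerivedCategory.obj (DCoh.inD X F) ≅ DCoh.inD X (T.obj F) :=
    (T.mapDerivedCategorySingleFunctor 0).app F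
  let i2 : T.mapDerivedCategory.obj ((DCoh.inD X W)⟦(m : ℤ)⟧) ≅ (DCoh.inD X W')⟦(m : ℤ)⟧ :=
    (T.mapDerivedCategory.commShiftIso (m : ℤ)).app _ ≪≫
      (shiftFunctor (DCoh.D X) (m : ℤ)).mapIso ((T.mapDerivedCategorySingleFunctor 0).app W ≪≫
        (DerivedCategory.singleFunctor X.Modules 0).mapIso e)
  exact ⟨E1.trans (Linear.homCongr k i1 i2)⟩

end Equivalence

theorem exists_addEquiv {L L' W F : X.Modules} (e : CohB1.tensorMod L L' ≅ Coh.structureModule X)
    (e' : CohB1.tensorMod L L' ≅ W)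
    (m p n : ℕ) (h : m + p = n)
    (τ : (P X ⟶ (DCoh.inD X W)⟦(n : ℤ)⟧) →ₗ[k] k) (hF : Coh.IsQCoh (CohB1.tensorMod F L'))
    (hτ : ∀ K : DCoh.D X, DCoh.IsQCohD K → Function.Bijective (pairing k X τ K)) :
    ∃ E : (DCoh.inD X F ⟶ (DCoh.inD X L)⟦(m : ℤ)⟧) ≃+ Module.Dual k (Coh.HH X (CohB1.tensorMod F L') p),
      ∀ (a : k) (g : DCoh.inD X F ⟶ (DCoh.inD X L)⟦(m : ℤ)⟧),
        E (g ≫ ((DerivedCategory.singleFunctor X.Modules 0).map (Formal.smulMod k L a))⟦(m : ℤ)⟧') = a • E g := by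
  let T := DCoh.tensorRightMod L'
  have hT : T.IsEquivalence := Sga2.LefPow644.isEquivalence_of_inv (Ega2.Tens.swap L' L ≪≫ e)
  have hlin : T.Linear k := K461.DualInv.linear_tensorRightMod k X L'
  obtain ⟨E1⟩ := equiv_of_equivalence k T (F := F) (W := L) (W' := W) e' m
  obtain ⟨E2⟩ := K461.DualAbs.dual_equiv_hom k (W := W) (F := CohB1.tensorMod F L') m p n h τ
    (hτ _ (PerfA.QCohD.isQCohD_shift (PerfA.QCohD.isQCohD_inD _ hF) (p : ℤ)))
  let E' := (E1.trans E2).trans (HV.equiv k (CohB1.tensorMod F L') p).symm.dualMap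
  refine ⟨E'.toAddEquiv, fun a g => ?_⟩
  have h1 : g ≫ ((DerivedCategory.singleFunctor X.Modules 0).map (Formal.smulMod k L a))⟦(m : ℤ)⟧' = a • g := by
    rw [LinMod.singleFunctor_map_smulMod, Functor.map_smul, CategoryTheory.Functor.map_id, Linear.comp_smul,
      Category.comp_id]
  rw [h1]
  exact E'.map_smul a g

end LinMod

theorem nonempty_of_exists [HasExt.{w} X.Modules] {W F : X.Modules} {V : Type u} [AddCommGroup V] [Module k V] (m : ℕ)
    (h : ∃ E : (DCoh.inD X F ⟶ (DCoh.inD X W)⟦(m : ℤ)⟧) ≃+ V,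
      ∀ (a : k) (g : DCoh.inD X F ⟶ (DCoh.inD X W)⟦(m : ℤ)⟧),
        E (g ≫ ((DerivedCategory.singleFunctor X.Modules 0).map (Formal.smulMod k W a))⟦(m : ℤ)⟧') = a • E g) :
    Nonempty (Abelian.Ext.{w} F W m ≃ₗ[k] V) := by
  obtain ⟨E, hE⟩ := h
  exact K271.ExtDualLin.nonempty_linearEquiv k m E hE

/-- **Serre duality** for `Ext(F, L)`, `L` invertible with inverse `L'`, trivial canonical sheaf. -/
theorem nonempty_ext_equiv [IsProper (X ↘ Spec (CommRingCat.of k))] (n : ℕ)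
    [SmoothOfRelativeDimension n (X ↘ Spec (CommRingCat.of k))]
    (hW : ExtPow.IsExtPow n (Omega.sheaf (X ↘ Spec (CommRingCat.of k))) (Coh.structureModule X))
    {L L' F : X.Modules} (e : CohB1.tensorMod L L' ≅ Coh.structureModule X) [HasExt.{w} X.Modules]
    (hF : Coh.IsQCoh (CohB1.tensorMod F L')) (m p : ℕ) (h : m + p = n) :
    Nonempty (Abelian.Ext.{w} F L m ≃ₗ[k] Module.Dual k (Coh.HH X (CohB1.tensorMod F L') p)) := by
  obtain ⟨τ, hτ⟩ := K461.SerreDual.exists_form k X n (Coh.structureModule X) hW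
  exact nonempty_of_exists k m (exists_addEquiv k e e m p n h τ hF hτ)

end K114.ExtDualTw
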