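import Groth.Agent.ShStab.K114.SimpObj
import Groth.Agent.PerfA.QCohExt

/-!
# Extensions which are not locally free
-/

set_option autoImplicit false
universe w u
open CategoryTheory CategoryTheory.Limits AlgebraicGeometry Opposite TopologicalSpace Polynomial

namespace K114.NonLF

open Groth.Agent.Fga.PicMon Groth.Agent
open ShStab StabCat Abelian
open Groth.Agent.CycB.StalkExact Groth.Agent.Divis.StalkMod
open K848.Rank K848.Hull K848.Poly K848.HB K848.TF K848.Dim K848.Stab K848.Hartogs K848.PicOne K848.Extn K848.Hull2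
open K114.Twists K114.Van K114.SimpObj

section Ab

variable {C : Type*} [Category* C] [Abelian C] [HasExt.{w} C] [EnoughInjectives C]

/-- From a class killed by the connecting map: an extension of `N` which embeds into an extension of `N'`. -/
theorem exists_extensions {N N' F L : C} (i : N ⟶ N') (q : N' ⟶ F) (w : i ≫ q = 0)
    (hS : (ShortComplex.mk i q w).ShortExact) (x : Ext.{w} N L 1) (hx : hS.extClass.comp x rfl = 0) (hx0 : x ≠ 0) :
    ∃ (V V' : C) (a : L ⟶ V) (b : V ⟶ N) (w1 : a ≫ b = 0) (_ : (ShortComplex.mk a b w1).ShortExact)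
      (a' : L ⟶ V') (b' : V' ⟶ N') (w2 : a' ≫ b' = 0) (_ : (ShortComplex.mk a' b' w2).ShortExact)
      (v : V ⟶ V') (_ : Mono v), v ≫ b' = b ≫ i ∧ ∀ r : V ⟶ L, a ≫ r ≠ 𝟙 L := by
  obtain ⟨x', hx'⟩ := Ext.contravariant_sequence_exact₁ hS L x rfl hx
  obtain ⟨V', a', p', w2, hV', hcl⟩ := Etcore.Yext.exists_extClass x'
  obtain ⟨w1, hV⟩ := Etcore.Yext.shortExact_pullback hV' i
  have hi : Mono i := hS.mono_f
  have hv : Mono (pullback.snd i p') := inferInstance
  refine ⟨_, V', _, _, w1, hV, a', p', w2, hV', pullback.snd i p', hv, pullback.condition.symm, ?_⟩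
  intro r hr
  have h3 := ShortComplex.ShortExact.extClass_naturality hV hV'
    { τ₁ := 𝟙 L
      τ₂ := pullback.snd i p'
      τ₃ := i
      comm₁₂ := by
        change 𝟙 L ≫ a' = pullback.lift 0 a' _ ≫ pullback.snd i p'
        rw [Category.id_comp, pullback.lift_snd]
      comm₂₃ := pullback.condition.symm }
  have h4 : hV.extClass = x := by
    rw [← hx', ← hcl]
    have h5 : (hV.extClass).comp (Ext.mk₀ (𝟙 L)) (add_zero 1) = hV.extClass := Ext.comp_mk₀_id _
    rw [← h5]
    exact h3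
  apply hx0
  rw [← h4, Etcore.Yext.extClass_eq_zero_iff]
  have := hV.epi_g
  let sp := ShortComplex.Splitting.ofExactOfRetraction _ hV.exact r hr hV.epi_g
  exact ⟨sp.s, sp.s_g⟩

end Ab

section Geo

variable (k : Type u) [Field k] {X : Scheme.{u}} [X.Over (Spec (CommRingCat.of k))]
  [IsProper (X ↘ Spec (CommRingCat.of k))] [IsIntegral X] {G : X.Modules} (hG : CohB1.IsAmple G)
  (hn : topologicalKrullDim X = ((2 : ℕ) : WithBot ℕ∞))
  (hreg : ∀ x : X, IsRegularLocalRing (X.presheaf.stalk x))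

include hG hn hreg in
/-- a proper submodule of codimension two colength of a torsion-free module is not locally free -/
theorem not_isFinLocFree {V V' : X.Modules} (v : V ⟶ V') [Mono v] (hV : Coh.IsCoh V) (hV' : Coh.IsCoh V')
    (htf : TorSh.IsTorsionFree V') (hr : rk V = rk V')
    (hα : alpha 1 (hp k G V') ≤ alpha 1 (hp k G V)) (hv : ¬ Epi v) : ¬ FlatMod.IsFinLocFree V := by
  intro hVf
  have := Groth.Agent.Fga.SnapperTwist.isNoetherian_of_proper k X
  have h5 := codim_of_alpha_pred_eq k hG hn v hV hV' hr hα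
  obtain ⟨ψ, hψ⟩ := exists_factor (isIntegrallyClosed_of_regular hreg) (big_cokOpen hV hV' v h5) v
    (bijective_cokOpen hV hV' v) hV hVf (𝟙 V)
  have h1 : v ≫ (𝟙 V' - ψ ≫ v) = 0 := by
    rw [Preadditive.comp_sub, Category.comp_id, ← Category.assoc, hψ, Category.id_comp, sub_self]
  have h2 : cokernel.desc v (𝟙 V' - ψ ≫ v) h1 = 0 := by
    refine eq_zero_of_generic hV'.1 htf _ ?_
    have h3 := generic_notMem_support_cokernel v hV' hV hr
    have h4 : Subsingleton ((cokernel v).presheaf.stalk (genericPoint X)) := not_not.mp h3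
    ext m
    rw [Subsingleton.elim m 0, map_zero]
    rfl
  have h3 : 𝟙 V' = ψ ≫ v := by
    rw [← sub_eq_zero, ← cokernel.π_desc v (𝟙 V' - ψ ≫ v) h1, h2, Limits.comp_zero]
  have : IsSplitEpi v := ⟨⟨⟨ψ, h3.symm⟩⟩⟩
  exact hv inferInstance

include hG hn hreg in
/-- nonsplit extensions which are not locally free, if `Ext¹(N, L)` has dimension at least two -/
theorem exists_not_isFinLocFree [HasExt.{u} X.Modules] {L L' N : X.Modules} (hL : PicF.IsInvertible L)
    (hL' : PicF.IsInvertible L') (ι : N ⟶ L') [Mono ι] (hN : Coh.IsCoh N)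
    (hd : topologicalKrullDim (CohB1.support (cokernel ι)) ≤ 0) (h0 : ¬ IsZero (cokernel ι))
    (hsimp : ∀ F : X.Modules, IsSimp F → Module.Finite k (Ext.{u} F L 2) ∧ Module.finrank k (Ext.{u} F L 2) ≤ 1)
    (h2 : 2 ≤ Module.finrank k (Ext.{u} N L 1)) :
    ∃ (V : X.Modules) (a : L ⟶ V) (b : V ⟶ N) (w : a ≫ b = 0),
      (ShortComplex.mk a b w).ShortExact ∧ (∀ r : V ⟶ L, a ≫ r ≠ 𝟙 L) ∧
        ¬ FlatMod.IsFinLocFree V := by
  have := Groth.Agent.Fga.SnapperTwist.isNoetherian_of_proper k X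
  have := Groth.Agent.CurvesC.ExtUnit.enoughInjectives_modules X
  have hLc := isCoh_of_isInvertible hL
  have hLc' := isCoh_of_isInvertible hL'
  have hQ := Groth.Agent.PerfA.CohSerre.isCoh_cokernel ι hN.1 hLc'
  obtain ⟨F, j, hj, hF⟩ := exists_simp k hG hQ h0 hd
  have hFc := hF.1
  have hSι : (ShortComplex.mk ι (cokernel.π ι) (cokernel.condition ι)).ShortExact :=
    { exact := ShortComplex.exact_cokernel ι, mono_f := inferInstance, epi_g := inferInstance }
  obtain ⟨w', hS'⟩ := Etcore.Yext.shortExact_pullback hSι j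
  -- the connecting map is not injective
  obtain ⟨hf1, hf2⟩ := hsimp F hF
  obtain ⟨x, hx0, hx⟩ : ∃ x : Ext.{u} N L 1, x ≠ 0 ∧ hS'.extClass.comp x rfl = 0 := by
    by_contra hcon
    push Not at hcon
    let Φ : Ext.{u} N L 1 →ₗ[k] Ext.{u} F L 2 := Ext.bilinearCompOfLinear k F N L 1 1 2 rfl hS'.extClass
    have hinj : Function.Injective Φ := by
      rw [injective_iff_map_eq_zero]
      intro x hx
      by_contra hx0
      exact hcon x hx0 hx
    have := LinearMap.finrank_le_finrank_of_injective hinj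
    omega
  obtain ⟨V, V', a, b, w1, hV, a', b', w2, hV', v, hv, hcomm, hns⟩ := exists_extensions _ _ w' hS' x hx hx0
  refine ⟨V, a, b, w1, hV, hns, ?_⟩
  have hN' := Groth.Agent.PerfA.QCohExt.isCoh_ext hS' hN hFc
  have hVc := Groth.Agent.PerfA.QCohExt.isCoh_ext hV hLc hN
  have hVc' := Groth.Agent.PerfA.QCohExt.isCoh_ext hV' hLc hN'
  dsimp only at hN' hVc hVc'
  have hm : Mono (pullback.snd j (cokernel.π ι)) := inferInstance
  have hN't : TorSh.IsTorsionFree (pullback j (cokernel.π ι)) :=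
    isTorsionFree_of_mono (pullback.snd j (cokernel.π ι)) (isTorsionFree_of_isInvertible hL')
  have hVt' : TorSh.IsTorsionFree V' := isTorsionFree_extension hV' (isTorsionFree_of_isInvertible hL) hN't
  have e1 := hp_add k hG.1 hS' hN hN' hFc
  have e2 := hp_add k hG.1 hV hLc hVc hN
  have e3 := hp_add k hG.1 hV' hLc hVc' hN'
  have r1 := rk_shortExact hS' hN'
  have r2 := rk_shortExact hV hVc
  have r3 := rk_shortExact hV' hVc'
  dsimp only at e1 e2 e3 r1 r2 r3
  have hFd : topologicalKrullDim (CohB1.support F) ≤ 0 :=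
    (Fga.DimLt.topologicalKrullDim_mono (Groth.Agent.CohqB.DevSupport.support_subset_of_mono j)).trans hd
  have hF1 : alpha 1 (hp k G F) = 0 := alpha_hp_eq_zero k hG.1 hFc (hFd.trans_lt (by decide))
  have hF2 : rk F = 0 := by
    have h3 := alpha_rk k hG.1 hn hFc
    rw [alpha_hp_eq_zero k hG.1 hFc (i := 2) (hFd.trans_lt (by decide))] at h3
    have h4 := alpha_O_pos k hG hn
    have h5 : (rk F : ℚ) = 0 := by
      rcases mul_eq_zero.1 h3.symm with h | h
      · exact h
      · exact absurd h h4.ne'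
    exact_mod_cast h5
  refine not_isFinLocFree k hG hn hreg v hVc hVc' hVt' (by omega) ?_ ?_
  · rw [e3, e1, e2, alpha_add, alpha_add, alpha_add, hF1, add_zero]
  · intro hve
    have hb' : Epi b' := hV'.epi_g
    have h4 : Epi (v ≫ b') := epi_comp v b'
    rw [hcomm] at h4
    have h5 : Epi (ShortComplex.mk _ _ w').f := epi_of_epi b (ShortComplex.mk _ _ w').f
    have h6 : pullback.fst j (cokernel.π ι) = 0 := by
      have h8 : (ShortComplex.mk _ _ w').f ≫ pullback.fst j (cokernel.π ι) = (ShortComplex.mk _ _ w').f ≫ 0 :=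
        w'.trans Limits.comp_zero.symm
      exact (cancel_epi (ShortComplex.mk _ _ w').f).1 h8
    have h7 : Epi (pullback.fst j (cokernel.π ι)) := hS'.epi_g
    apply hF.2.1
    rw [IsZero.iff_id_eq_zero, ← cancel_epi (pullback.fst j (cokernel.π ι)), h6]
    simp

end Geo

end K114.NonLF
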