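import Groth.Agent.ShStab.K114.K3Chi
import Groth.Agent.ShStab.K114.NonLF
import Groth.Agent.ShStab.K114.ExtDualTw

/-!
# Glue: powers of the generator of the Picard group, twists of simple modules, duality
-/

set_option autoImplicit false
universe w u
open CategoryTheory CategoryTheory.Limits AlgebraicGeometry Opposite TopologicalSpace Polynomial

namespace K114.K3Glue

open Groth.Agent.Fga.PicMon Groth.Agent
open ShStab StabCat
open K848.Rank K848.Hull K848.Poly K848.HB K848.TF K848.Dim K848.Stab K848.Hartogs K848.PicOne K848.Extn K848.Hull2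
open K114.Twists K114.Van K114.SimpObj

section T

variable {X : Scheme.{u}} [PicGrp.Law X] (G : X.Modules) (hG : PicF.IsInvertible G)

theorem exists_T : ∃ (T : ℤ → X.Modules) (hT : ∀ a, PicF.IsInvertible (T a)), T 1 = G ∧
    ∀ a, PicGrp.cls (T a) (hT a) = PicGrp.cls G hG ^ a := by
  classical
  choose T' hT' hc' using fun a : ℤ => exists_module (X := X) (PicGrp.cls G hG ^ a)
  have key : ∀ (M : X.Modules) (hM : PicF.IsInvertible M), M = G → PicGrp.cls M hM = PicGrp.cls G hG := by
    rintro M hM rfl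
    rfl
  refine ⟨fun a => if a = 1 then G else T' a, fun a => ?_, by simp, fun a => ?_⟩
  · by_cases h : a = 1
    · simpa [h] using hG
    · simpa [h] using hT' a
  · by_cases h : a = 1
    · subst h
      rw [zpow_one]
      exact key _ _ (by simp)
    · have key2 : ∀ (M : X.Modules) (hM : PicF.IsInvertible M), M = T' a → PicGrp.cls M hM = PicGrp.cls G hG ^ a := by
        rintro M hM rfl
        exact hc' a
      exact key2 _ _ (by simp [h])

variable {G hG} {T : ℤ → X.Modules} {hT : ∀ a, PicF.IsInvertible (T a)}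
  (hcls : ∀ a, PicGrp.cls (T a) (hT a) = PicGrp.cls G hG ^ a)

include hcls in
theorem mul_of_cls (a b : ℤ) : mc (T a) * mc (T b) = mc (T (a + b)) := by
  have h : PicGrp.cls (T a) (hT a) * PicGrp.cls (T b) (hT b) = PicGrp.cls (T (a + b)) (hT (a + b)) := by
    rw [hcls, hcls, hcls, zpow_add]
  have h2 := congrArg Subtype.val h
  rw [PicGrp.mul_val] at h2
  rw [← mc_tensor]
  exact h2

include hcls in
theorem zero_of_cls : mc (T 0) = 1 := by
  have h : PicGrp.cls (T 0) (hT 0) = 1 := by rw [hcls, zpow_zero]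
  have h2 := congrArg Subtype.val h
  rw [PicGrp.one_val] at h2
  rw [← mc_one]
  exact h2

include hcls in
theorem pic_of_cls (hgen : ∀ c : PicLoc.PicSet X, ∃ n : ℤ, c = PicGrp.cls G hG ^ n) (M : X.Modules)
    (hM : PicF.IsInvertible M) : ∃ a : ℤ, Nonempty (M ≅ T a) := by
  obtain ⟨a, ha⟩ := hgen (PicGrp.cls M hM)
  exact ⟨a, (mc_eq_iff _ _).1 (congrArg Subtype.val (ha.trans (hcls a).symm))⟩

end T

section Simp

variable {X : Scheme.{u}} [IsLocallyNoetherian X]

/-- twists of simple modules are simple -/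
theorem isSimp_tensor {L L' F : X.Modules} (hL : PicF.IsInvertible L) (hL' : PicF.IsInvertible L')
    (e : CohB1.tensorMod L L' ≅ Coh.structureModule X) (hF : IsSimp F) : IsSimp (CohB1.tensorMod F L') := by
  let T := DCoh.tensorRightMod L'
  have hT : T.IsEquivalence := Sga2.LefPow644.isEquivalence_of_inv (Ega2.Tens.swap L' L ≪≫ e)
  have hmc : mc L * mc L' = 1 := by rw [← mc_tensor, (mc_eq_iff _ _).2 ⟨e⟩, mc_one]
  obtain ⟨hFc, hF0, hs⟩ := hF
  refine ⟨Groth.Agent.Fga.TwistCoh.isCoh_tensor hFc hL', ?_, ?_⟩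
  · intro h
    have h1 : IsZero (T.obj F) := h
    apply hF0
    rw [IsZero.iff_id_eq_zero] at h1 ⊢
    apply T.map_injective
    rw [T.map_id, T.map_zero]
    exact h1
  · intro G j hj hG hG0
    let G₀ := T.objPreimage G
    let i₀ : T.obj G₀ ≅ G := T.objObjPreimageIso G
    obtain ⟨j₀, hj₀⟩ := T.map_surjective (i₀.hom ≫ j : T.obj G₀ ⟶ T.obj F)
    have hm : Mono (T.map j₀) := by rw [hj₀]; exact mono_comp' inferInstance hj
    have hm0 : Mono j₀ := T.mono_of_mono_map hm
    have hc : Coh.IsCoh G₀ := by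
      have h1 : Coh.IsCoh (T.obj G₀) := Groth.Agent.PerfA.CohSerre.isCoh_of_iso i₀.symm hG
      have h2 : Coh.IsCoh (CohB1.tensorMod (CohB1.tensorMod G₀ L') L) :=
        Groth.Agent.Fga.TwistCoh.isCoh_tensor h1 hL
      obtain ⟨i1⟩ := (mc_eq_iff (CohB1.tensorMod (CohB1.tensorMod G₀ L') L) G₀).1 (by
        rw [mc_tensor, mc_tensor, mul_assoc, mul_comm (mc L'), hmc, mul_one])
      exact Groth.Agent.PerfA.CohSerre.isCoh_of_iso i1 h2
    have h0 : ¬ IsZero G₀ := fun h => hG0 (by
      have h1 : IsZero (T.obj G₀) := T.map_isZero h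
      exact h1.of_iso i₀.symm)
    have hi := hs G₀ j₀ hm0 hc h0
    have h2 : IsIso (i₀.hom ≫ j) := by
      have h3 : IsIso (T.map j₀) := inferInstance
      rw [hj₀] at h3
      exact h3
    exact @IsIso.of_isIso_comp_left _ _ _ _ _ i₀.hom j _ h2

end Simp

section Dual

variable (k : Type u) [Field k] {X : Scheme.{u}} [X.Over (Spec (CommRingCat.of k))]
  [IsProper (X ↘ Spec (CommRingCat.of k))] [SmoothOfRelativeDimension 2 (X ↘ Spec (CommRingCat.of k))]
  (hW : ExtPow.IsExtPow 2 (Omega.sheaf (X ↘ Spec (CommRingCat.of k))) (Coh.structureModule X))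
  {T : ℤ → X.Modules} (hT : ∀ a, PicF.IsInvertible (T a))
  (hmul : ∀ a b, mc (T a) * mc (T b) = mc (T (a + b))) (h0 : mc (T 0) = 1)

include hW hT hmul h0 in
theorem hdual (a : ℤ) (p m : ℕ) (h : m + p = 2) :
    Module.finrank k (Coh.HH X (T a) p) = Module.finrank k (Coh.HH X (T (-a)) m) := by
  have e : Nonempty (CohB1.tensorMod (T a) (T (-a)) ≅ Coh.structureModule X) :=
    (mc_eq_iff _ _).1 (by rw [mc_tensor, hmul, add_neg_cancel, h0, mc_one])
  rw [K461.SerreDual.finrank_eq k 2 hW e (isCoh_of_isInvertible (hT a)).1 m p h]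
  obtain ⟨e'⟩ : Nonempty (CohB1.tensorMod (Coh.structureModule X) (T (-a)) ≅ T (-a)) :=
    (mc_eq_iff _ _).1 (by rw [mc_tensor, mc_one, one_mul])
  exact (Groth.Agent.VarietyA.EulerLES.equivA k e' m).finrank_eq

include hW in
theorem finrank_ext {L L' F : X.Modules} (hL' : PicF.IsInvertible L')
    (e : CohB1.tensorMod L L' ≅ Coh.structureModule X) [HasExt.{w} X.Modules]
    (hF : Coh.IsCoh F) (m p : ℕ) (h : m + p = 2) :
    Module.Finite k (Abelian.Ext.{w} F L m) ∧
      Module.finrank k (Abelian.Ext.{w} F L m) = Module.finrank k (Coh.HH X (CohB1.tensorMod F L') p) := by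
  have hc := Groth.Agent.Fga.TwistCoh.isCoh_tensor hF hL'
  obtain ⟨E⟩ := K114.ExtDualTw.nonempty_ext_equiv k 2 hW e (F := F) hc.1 m p h
  have := Groth.Agent.Fga.SnapperTwist.isNoetherian_of_proper k X
  have hfin := Groth.Agent.S0002.result k X _ hc p
  exact ⟨Module.Finite.equiv E.symm, by rw [E.finrank_eq, Subspace.dual_finrank_eq]⟩

end Dual

end K114.K3Glue
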