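import Groth.Agent.ShStab.K114.SimpObj

/-!
# `χ(G^a) = c a² + 2` on a K3 surface with Picard group generated by `G`; vanishing of `H¹`
-/

set_option autoImplicit false
universe u
open CategoryTheory CategoryTheory.Limits AlgebraicGeometry Opposite TopologicalSpace Polynomial

namespace K114.K3Chi

open Groth.Agent.Fga.PicMon Groth.Agent
open ShStab StabCat
open K848.Rank K848.Hull K848.Poly K848.HB K848.TF K848.Dim K848.Stab K848.Hartogs K848.PicOne K848.Extn K848.Hull2
open K114.Twists K114.Van K114.SimpObj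

variable (k : Type u) [Field k] {X : Scheme.{u}} [X.Over (Spec (CommRingCat.of k))]
  [IsProper (X ↘ Spec (CommRingCat.of k))] {T : ℤ → X.Modules} (hT : ∀ a, PicF.IsInvertible (T a))
  (hmul : ∀ a b, mc (T a) * mc (T b) = mc (T (a + b))) (h0 : mc (T 0) = 1)

include hT hmul h0 in
theorem hp_T (a : ℤ) : hp k (T 1) (T a) = shift a (hp k (T 1) (Coh.structureModule X)) := by
  obtain ⟨b, rfl | rfl⟩ := a.eq_nat_or_neg
  · rw [hp_of_mc k (hT 1) isCoh_structureModule (isCoh_of_isInvertible (hT b)) b (by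
      rw [mc_one, one_mul, mc_pow hmul h0])]
    simp
  · rw [hp_of_mc' k (hT 1) isCoh_structureModule (isCoh_of_isInvertible (hT (-b))) b (by
      rw [mc_one, ← mc_pow hmul h0, hmul, neg_add_cancel, h0])]
    simp

theorem euler_eq (hn : topologicalKrullDim X = ((2 : ℕ) : WithBot ℕ∞)) (F : X.Modules) :
    Curv2.euler k X F = (Module.finrank k (Coh.HH X F 0) : ℤ) - Module.finrank k (Coh.HH X F 1) +
      Module.finrank k (Coh.HH X F 2) := by
  have := Groth.Agent.Fga.SnapperTwist.isNoetherian_of_proper k X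
  rw [← Groth.Agent.Fga.EulerLEAdd.eulerCharLE_eq_euler k X 2 hn.le]
  unfold FGA.eulerCharLE
  simp only [Finset.sum_range_succ, Finset.sum_range_zero]
  ring

variable (hL : CohB1.IsAmple (T 1)) (hn : topologicalKrullDim X = ((2 : ℕ) : WithBot ℕ∞))
  (hdual : ∀ (a : ℤ) (p m : ℕ), m + p = 2 →
    Module.finrank k (Coh.HH X (T a) p) = Module.finrank k (Coh.HH X (T (-a)) m))
  (h00 : Module.finrank k (Coh.HH X (Coh.structureModule X) 0) = 1)
  (h10 : Module.finrank k (Coh.HH X (Coh.structureModule X) 1) = 0)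

include h0 in
omit [IsProper (X ↘ Spec (CommRingCat.of k))] in
theorem finrank_T0 (p : ℕ) : Module.finrank k (Coh.HH X (T 0) p) =
    Module.finrank k (Coh.HH X (Coh.structureModule X) p) := by
  obtain ⟨i0⟩ := (mc_eq_iff (T 0) (Coh.structureModule X)).1 (by rw [h0, mc_one])
  exact (Groth.Agent.VarietyA.EulerLES.equivA k i0 p).finrank_eq

include hT hmul h0 hL hn hdual h00 h10 in
theorem exists_chi [IsIntegral X] : ∃ c : ℚ, 0 < c ∧ ∀ a : ℤ, (hp k (T 1) (T a)).eval 0 = c * a ^ 2 + 2 := by
  have hO : Coh.IsCoh (Coh.structureModule X) := isCoh_structureModule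
  have hdeg := natDegree_le k hL.1 hn hO
  have hα := alpha_O_pos k hL hn
  set P := hp k (T 1) (Coh.structureModule X) with hP
  have hev : ∀ a : ℤ, (hp k (T 1) (T a)).eval 0 = P.eval (a : ℚ) := fun a => by
    rw [hp_T k hT hmul h0 a, eval_shift, zero_add]
  have heu : ∀ a : ℤ, (Curv2.euler k X (T a) : ℚ) = P.eval (a : ℚ) := fun a => by
    rw [← hev, euler_eq_eval k hL.1 (isCoh_of_isInvertible (hT a))]
  have hsym : Curv2.euler k X (T 1) = Curv2.euler k X (T (-1)) := by
    rw [euler_eq k hn, euler_eq k hn, hdual 1 0 2 rfl, hdual 1 1 1 rfl, hdual 1 2 0 rfl]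
    ring
  have hform : ∀ x : ℚ, P.eval x = P.coeff 2 * x ^ 2 + P.coeff 1 * x + P.coeff 0 := fun x => by
    rw [eval_eq_sum_range' (n := 3) (by omega)]
    simp only [Finset.sum_range_succ, Finset.sum_range_zero]
    ring
  have h1 : P.coeff 1 = 0 := by
    have h2 := heu 1
    have h3 := heu (-1)
    rw [hsym, h3, hform, hform] at h2
    push_cast at h2
    linarith
  have h2 : P.coeff 0 = 2 := by
    have h3 := heu 0
    rw [euler_eq k hn, hform] at h3
    have h4 := hdual 0 2 0 rfl
    rw [neg_zero, finrank_T0 k h0, finrank_T0 k h0] at h4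
    rw [finrank_T0 k h0, finrank_T0 k h0, finrank_T0 k h0, h4, h00, h10] at h3
    push_cast at h3
    linarith
  refine ⟨P.coeff 2, ?_, fun a => ?_⟩
  · have h3 : alpha 2 P = 2 * P.coeff 2 := by
      unfold alpha
      norm_num
    rw [h3] at hα
    linarith
  · rw [hev, hform, h1, h2]
    ring

include k hT hmul h0 hL hn in
theorem hom_neg_eq_zero [IsIntegral X] {m : ℤ} (hm : 0 < m) (s : Coh.structureModule X ⟶ T (-m)) : s = 0 := by
  have hO : Coh.IsCoh (Coh.structureModule X) := isCoh_structureModule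
  refine (eq_zero_or_mono hO (isTorsionFree_of_isInvertible
    Groth.Agent.Fdesc.LocGen.isInvertible_structureModule) rk_structureModule (isCoh_of_isInvertible (hT (-m)))
    (isTorsionFree_of_isInvertible (hT (-m))) s).resolve_right fun hs => ?_
  have h1 := alpha_pred_le k hL hn s hO (isCoh_of_isInvertible (hT (-m)))
    (by rw [rk_structureModule, rk_structureModule_of_isInvertible (hT (-m))])
  have h2 := alpha_T k hT hmul h0 hn one_le_two (-m)
  have h3 := alpha_O_pos k hL hn
  have h4 : (0 : ℚ) < m := by exact_mod_cast hm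
  have h5 := mul_pos h4 h3
  push_cast at h2
  linarith

include hT hmul h0 hL hn hdual h00 h10 in
/-- powers of the polarisation have sections -/
theorem exists_section [IsIntegral X] {m : ℤ} (hm : 0 < m) : ∃ s : Coh.structureModule X ⟶ T m, s ≠ 0 := by
  obtain ⟨c, hc, hχ⟩ := exists_chi k hT hmul h0 hL hn hdual h00 h10
  have h1 := euler_eq_eval k hL.1 (isCoh_of_isInvertible (hT m))
  rw [hχ, euler_eq k hn, hdual m 2 0 rfl] at h1
  have h2 : Module.finrank k (Coh.HH X (T (-m)) 0) = 0 := by
    have h3 : Subsingleton (Coh.structureModule X ⟶ T (-m)) :=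
      ⟨fun a b => (hom_neg_eq_zero k hT hmul h0 hL hn hm a).trans (hom_neg_eq_zero k hT hmul h0 hL hn hm b).symm⟩
    rw [← (homHH k (T (-m))).finrank_eq, Module.finrank_zero_of_subsingleton]
  rw [h2] at h1
  by_contra hcon
  push Not at hcon
  have h4 : Subsingleton (Coh.structureModule X ⟶ T m) := ⟨fun a b => (hcon a).trans (hcon b).symm⟩
  rw [← (homHH k (T m)).finrank_eq, Module.finrank_zero_of_subsingleton] at h1
  push_cast at h1
  have h5 : (0 : ℚ) ≤ (Module.finrank k (Coh.HH X (T m) 1) : ℚ) := by positivity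
  have h6 : 0 ≤ c * (m : ℚ) ^ 2 := by positivity
  linarith

include hT hmul h0 hL hn hdual h00 h10 in
/-- `H¹` of every invertible module vanishes -/
theorem finrank_h1 [IsAlgClosed k] [IsIntegral X] (hreg : ∀ x : X, IsRegularLocalRing (X.presheaf.stalk x))
    (hPic : ∀ M : X.Modules, PicF.IsInvertible M → ∃ a : ℤ, Nonempty (M ≅ T a)) (a : ℤ) :
    Module.finrank k (Coh.HH X (T a) 1) = 0 := by
  have hO1 : Subsingleton (Coh.HH X (Coh.structureModule X) 1) := by
    have := Groth.Agent.S0002.result k X (Coh.structureModule X) isCoh_structureModule 1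
    exact Module.finrank_zero_iff.1 h10
  obtain ⟨c, hc, hχ⟩ := exists_chi k hT hmul h0 hL hn hdual h00 h10
  have key : ∀ m : ℤ, 0 < m → Module.finrank k (Coh.HH X (T (-m)) 1) = 0 := by
    intro m hm
    obtain ⟨s, hs⟩ := exists_section k hT hmul h0 hL hn hdual h00 h10 hm
    have := subsingleton_h1_neg k hT hmul h0 hL hn hreg hPic hχ hc hO1 m hm hs
    exact Module.finrank_zero_of_subsingleton
  rcases lt_trichotomy a 0 with h | h | h
  · have := key (-a) (by omega)
    rwa [neg_neg] at this
  · subst h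
    rw [finrank_T0 k h0, h10]
  · rw [hdual a 1 1 rfl]
    exact key a h

end K114.K3Chi
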