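import Groth.Agent.ShStab.K114.Van
import Groth.Agent.ShStab.K848.Pt
import Groth.Agent.Sga2.LefPow644

/-!
# Simple coherent submodules of coherent modules with finite support
-/

set_option autoImplicit false
universe u
open CategoryTheory CategoryTheory.Limits AlgebraicGeometry Opposite TopologicalSpace Polynomial

namespace K114.SimpObj

open Groth.Agent.Fga.PicMon Groth.Agent
open ShStab StabCat
open K848.Rank K848.Hull K848.Poly K848.HB K848.TF K848.Dim K848.Stab K848.Hartogs K848.PicOne K848.Extn K848.Hull2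
open K114.Twists K114.Van

/-- coherent, nonzero, without nontrivial coherent submodules -/
def IsSimp {X : Scheme.{u}} (F : X.Modules) : Prop :=
  Coh.IsCoh F ∧ ¬ IsZero F ∧ ∀ (G : X.Modules) (j : G ⟶ F), Mono j → Coh.IsCoh G → ¬ IsZero G → IsIso j

section Exists

variable (k : Type u) [Field k] {X : Scheme.{u}} [X.Over (Spec (CommRingCat.of k))]
  [IsProper (X ↘ Spec (CommRingCat.of k))]

theorem isZero_of_euler {L : X.Modules} (hL : CohB1.IsAmple L) {F : X.Modules} (hF : Coh.IsCoh F)
    (hd : topologicalKrullDim (CohB1.support F) ≤ 0) (h : Curv2.euler k X F = 0) : IsZero F := by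
  refine isZero_of_hp k hL hF ?_
  have h1 := natDegree_hp_le k hL.1 hF (d := 0) (by exact_mod_cast hd)
  have h2 := euler_eq_eval k hL.1 hF
  rw [h, Int.cast_zero, ← coeff_zero_eq_eval_zero] at h2
  rw [eq_C_of_natDegree_le_zero h1, ← h2, C_0]

include k in
theorem exists_simp {L : X.Modules} (hL : CohB1.IsAmple L) {Q : X.Modules} (hQ : Coh.IsCoh Q) (h0 : ¬ IsZero Q)
    (hd : topologicalKrullDim (CohB1.support Q) ≤ 0) : ∃ (F : X.Modules) (j : F ⟶ Q), Mono j ∧ IsSimp F := by
  classical
  have := Groth.Agent.Fga.SnapperTwist.isNoetherian_of_proper k X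
  let P : ℕ → Prop := fun n => ∃ (F : X.Modules) (j : F ⟶ Q), Mono j ∧ Coh.IsCoh F ∧ ¬ IsZero F ∧
    Module.finrank k (Coh.HH X F 0) = n
  have hP : ∃ n, P n := ⟨_, Q, 𝟙 Q, inferInstance, hQ, h0, rfl⟩
  obtain ⟨F, j, hj, hF, hF0, hFn⟩ := Nat.find_spec hP
  refine ⟨F, j, hj, hF, hF0, ?_⟩
  intro G g hg hG hG0
  have hsub : ∀ {A B : X.Modules} (f : A ⟶ B), Mono f → topologicalKrullDim (CohB1.support B) ≤ 0 →
      topologicalKrullDim (CohB1.support A) ≤ 0 := fun {A B} f hf hB =>
    (Fga.DimLt.topologicalKrullDim_mono (Groth.Agent.CohqB.DevSupport.support_subset_of_mono f)).trans hB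
  have hdF := hsub j hj hd
  have hdG := hsub g hg hdF
  have hR := Groth.Agent.PerfA.CohSerre.isCoh_cokernel g hG.1 hF
  have hdR : topologicalKrullDim (CohB1.support (cokernel g)) ≤ 0 :=
    (Fga.DimLt.topologicalKrullDim_mono (Groth.Agent.CohqB.DevSupport.support_subset_of_epi (cokernel.π g))).trans hdF
  have hS : (ShortComplex.mk g (cokernel.π g) (cokernel.condition g)).ShortExact :=
    { exact := ShortComplex.exact_cokernel g, mono_f := hg, epi_g := inferInstance }
  have h1 := isAdd_euler k _ hS hG hF hR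
  dsimp only at h1
  rw [K848.Pt.euler_eq_finrank k hG hdG, K848.Pt.euler_eq_finrank k hF hdF] at h1
  have h2 : Nat.find hP ≤ Module.finrank k (Coh.HH X G 0) :=
    Nat.find_min' hP ⟨G, g ≫ j, mono_comp g j, hG, hG0, rfl⟩
  have h3 := K848.Pt.euler_eq_finrank k hR hdR
  have h4 : Curv2.euler k X (cokernel g) = 0 := by omega
  have h5 := isZero_of_euler k hL hR hdR h4
  have : Epi g := Preadditive.epi_of_cokernel_zero (h5.eq_of_tgt _ _)
  exact isIso_of_mono_of_epi g

end Exists

section HomHH

variable (k : Type u) [Field k] {X : Scheme.{u}} [X.Over (Spec (CommRingCat.of k))]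

/-- `Hom(O, M) = H⁰(M)`, linearly -/
noncomputable def homHH (M : X.Modules) : (Coh.structureModule X ⟶ M) ≃ₗ[k] Coh.HH X M 0 :=
  letI := CurvesB.HZero.moduleΓ k M
  (LinearEquiv.ofBijective (K706.HomFin.secLin k M)
    ⟨K706.HomFin.secLin_injective k M, fun m => ⟨(Dcoh.Restrict.unitEquiv M).symm m,
      (Dcoh.Restrict.unitEquiv M).apply_symm_apply m⟩⟩).trans (CurvesB.HZero.equivLin k M).symm

end HomHH

section Finrank

variable (k : Type u) [Field k] [IsAlgClosed k] {X : Scheme.{u}} [X.Over (Spec (CommRingCat.of k))]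
  [IsProper (X ↘ Spec (CommRingCat.of k))]

theorem finrank_le_one {F : X.Modules} (hF : IsSimp F) :
    Module.finrank k (Coh.HH X F 0) ≤ 1 := by
  have := Groth.Agent.Fga.SnapperTwist.isNoetherian_of_proper k X
  obtain ⟨hFc, hF0, hs⟩ := hF
  by_cases h : ∃ s : Coh.structureModule X ⟶ F, s ≠ 0
  · obtain ⟨s, hs0⟩ := h
    have hO : Coh.IsCoh (Coh.structureModule X) := isCoh_structureModule
    -- maps from coherent modules are zero or epi
    have hepi : ∀ {A : X.Modules} (_ : Coh.IsCoh A) (f : A ⟶ F), f ≠ 0 → Epi f := by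
      intro A hA f hf
      have hi := hs (Abelian.image f) (Abelian.image.ι f) inferInstance
        (Groth.Agent.Sga67.CohBasic.isCoh_image f hA hFc.1) (fun h0 => hf (by
          rw [← Abelian.image.fac f, h0.eq_of_tgt (Abelian.factorThruImage f) 0, Limits.zero_comp]))
      rw [← Abelian.image.fac f]
      exact epi_comp _ _
    have he : Epi s := hepi hO s hs0
    have hend : ∀ τ : F ⟶ F, τ = 0 ∨ Mono τ := by
      intro τ
      by_contra hcon
      rw [not_or] at hcon
      have hK0 : ¬ IsZero (kernel τ) := fun h0 => hcon.2 (Preadditive.mono_of_kernel_zero (h0.eq_of_src _ _))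
      have hi := hs (kernel τ) (kernel.ι τ) inferInstance
        (Groth.Agent.PerfA.CohSerre.isCoh_kernel τ hFc hFc.1) hK0
      exact hcon.1 (by rw [← cancel_epi (kernel.ι τ), kernel.condition, Limits.comp_zero])
    have hS : (ShortComplex.mk (kernel.ι s) s (kernel.condition s)).ShortExact :=
      { exact := ShortComplex.exact_kernel s, mono_f := inferInstance, epi_g := he }
    have := Groth.Agent.S0002.result k X F hFc 0
    have hfin := K706.HomFin.finite_unit_hom k F
    have h1 : Module.finrank k (Coh.structureModule X ⟶ F) ≤ 1 := by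
      refine _root_.finrank_le_one s fun t => ?_
      obtain ⟨τ, hτ⟩ := exists_endo (kernel.ι s) s _ hS t
      obtain ⟨a, ha⟩ := exists_scalar k hFc hs0 hend τ
      exact ⟨a, by rw [← hτ, ha, Linear.comp_smul, Category.comp_id]⟩
    rwa [(homHH k F).finrank_eq] at h1
  · have h1 : ∀ s : Coh.structureModule X ⟶ F, s = 0 := fun s => by
      by_contra h2
      exact h ⟨s, h2⟩
    have : Subsingleton (Coh.structureModule X ⟶ F) := ⟨fun a b => (h1 a).trans (h1 b).symm⟩
    rw [← (homHH k F).finrank_eq, Module.finrank_zero_of_subsingleton]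
    exact zero_le_one

end Finrank

end K114.SimpObj
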