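import Groth.Agent.ShStab.K848.Hull2
import Groth.Agent.PerfB.TensInv
import Groth.Agent.VarietyB.DegCartier
import Groth.Agent.IntTh.K711.TwistCls
import Groth.Agent.Ega3B.ProjFrame
import Groth.Agent.Fga.TwistCoh

/-!
# Slope stability of extensions of an ideal sheaf twisted by a power of the generator of the Picard group
-/

set_option autoImplicit false
universe u
open CategoryTheory CategoryTheory.Limits AlgebraicGeometry Opposite TopologicalSpace Polynomial

namespace K114.Twists

open Groth.Agent.Fga.PicMon Groth.Agent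
open ShStab StabCat
open Groth.Agent.CycB.StalkExact Groth.Agent.Divis.StalkMod
open K848.Rank K848.Hull K848.Poly K848.HB K848.TF K848.Dim K848.Stab K848.Hartogs K848.PicOne K848.Extn K848.Hull2

section Mono

variable {X : Scheme.{u}}

/-- tensoring a mono with an invertible module -/
theorem mono_tensor {M N L : X.Modules} (hL : PicF.IsInvertible L) (f : M ⟶ N) [Mono f] :
    Mono ((DCoh.tensorRightMod L).map f) := by
  have h := Groth.Agent.PerfB.TensInv.preservesFiniteLimits_of_isInvertible hL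
  infer_instance

/-- sections and maps out of the structure sheaf -/
theorem hom_eq_zero {M : X.Modules} (h : Subsingleton (Coh.HH X M 0)) (f : Coh.structureModule X ⟶ M) : f = 0 := by
  have : HasExt.{u + 1} X.Modules := HasExt.standard _
  have := Groth.Agent.CurvesC.ExtUnit.enoughInjectives_modules X
  have h1 : Subsingleton (Abelian.Ext.{u + 1} (Coh.structureModule X) M 0) :=
    (Groth.Agent.CurvesC.ExtUnit.extHH M 0).injective.subsingleton
  have h2 : Subsingleton (Coh.structureModule X ⟶ M) :=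
    (Abelian.Ext.homEquiv₀ (C := X.Modules)).symm.injective.subsingleton
  exact Subsingleton.elim _ _

theorem not_isZero_of_isInvertible [IsIntegral X] {M : X.Modules} (hM : PicF.IsInvertible M) : ¬ IsZero M :=
  not_isZero_of_rk (by rw [rk_structureModule_of_isInvertible hM]; exact one_ne_zero)

/-- transport of a mono along equalities of classes, after a twist -/
theorem exists_mono_tensor {M N M' N' L : X.Modules} (hL : PicF.IsInvertible L) (f : M ⟶ N) [Mono f]
    (h1 : mc M' = mc M * mc L) (h2 : mc N * mc L = mc N') : ∃ g : M' ⟶ N', Mono g := by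
  obtain ⟨e1⟩ := (mc_eq_iff M' (CohB1.tensorMod M L)).1 (by rw [h1, mc_tensor])
  obtain ⟨e2⟩ := (mc_eq_iff (CohB1.tensorMod N L) N').1 (by rw [← h2, mc_tensor])
  have h3 := mono_tensor hL f
  let g' : CohB1.tensorMod M L ⟶ CohB1.tensorMod N L := (DCoh.tensorRightMod L).map f
  have h4 : Mono g' := h3
  exact ⟨e1.hom ≫ g' ≫ e2.hom, mono_comp' inferInstance (mono_comp' h4 inferInstance)⟩

end Mono

section Main

variable (k : Type u) [Field k] {X : Scheme.{u}} [X.Over (Spec (CommRingCat.of k))]
  [IsProper (X ↘ Spec (CommRingCat.of k))] {L : X.Modules} {n : ℕ}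
  {T : ℤ → X.Modules} (hT : ∀ a, PicF.IsInvertible (T a)) (hmul : ∀ a b, mc (T a) * mc (T b) = mc (T (a + b)))
  (h0 : mc (T 0) = 1)

include hmul h0 in
omit [IsProper (X ↘ Spec (CommRingCat.of k))] [X.Over (Spec (CommRingCat.of k))] in
theorem mc_pow (b : ℕ) : mc (T b) = mc (T 1) ^ b := by
  induction b with
  | zero => rw [pow_zero, Nat.cast_zero, h0]
  | succ b ih => rw [pow_succ, ← ih, hmul]; push_cast; rfl

include hT hmul h0 in
/-- the subtop coefficient of a power of the polarisation -/
theorem alpha_T (hn : topologicalKrullDim X = n) (h1 : 1 ≤ n) (a : ℤ) :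
    alpha (n - 1) (hp k (T 1) (T a)) = alpha (n - 1) (hp k (T 1) (Coh.structureModule X)) +
      a * alpha n (hp k (T 1) (Coh.structureModule X)) := by
  obtain ⟨b, rfl | rfl⟩ := a.eq_nat_or_neg
  · rw [alpha_pred_twist k (hT 1) hn h1 isCoh_structureModule (isCoh_of_isInvertible (hT b)) b (by
      rw [mc_one, one_mul, mc_pow hmul h0])]
    push_cast
    rfl
  · rw [alpha_pred_twist' k (hT 1) hn h1 isCoh_structureModule (isCoh_of_isInvertible (hT (-b))) b (by
      rw [mc_one, ← mc_pow hmul h0, hmul, neg_add_cancel, h0])]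
    push_cast
    ring

variable [IsIntegral X]

omit [IsProper (X ↘ Spec (CommRingCat.of k))] [X.Over (Spec (CommRingCat.of k))] in
include hT hmul in
theorem exists_mono_T {s : Coh.structureModule X ⟶ T 1} (hs : s ≠ 0) (m : ℕ) (a : ℤ) :
    ∃ g : T a ⟶ T (a + m), Mono g := by
  have hsm : Mono s := (eq_zero_or_mono isCoh_structureModule (isTorsionFree_of_isInvertible
    Groth.Agent.Fdesc.LocGen.isInvertible_structureModule) rk_structureModule (isCoh_of_isInvertible (hT 1))
    (isTorsionFree_of_isInvertible (hT 1)) s).resolve_left hs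
  induction m with
  | zero =>
    rw [Nat.cast_zero, add_zero]
    exact ⟨𝟙 _, inferInstance⟩
  | succ m ih =>
    obtain ⟨g, hg⟩ := ih
    obtain ⟨g', hg'⟩ := exists_mono_tensor (M' := T (a + m)) (N' := T (a + (m + 1 : ℕ))) (hT (a + m)) s
      (by rw [mc_one, one_mul]) (by rw [hmul]; congr 2; push_cast; ring)
    exact ⟨g ≫ g', mono_comp' hg hg'⟩

include hT hmul h0 in
/-- slope-stability of extensions of a rank one torsion-free module without maps from the polarisation by the structure
sheaf -/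
theorem isMuStable_of_twists (hL : CohB1.IsAmple (T 1)) (hn : topologicalKrullDim X = n) (h1 : 1 ≤ n)
    (hreg : ∀ x : X, IsRegularLocalRing (X.presheaf.stalk x))
    (hPic : ∀ M : X.Modules, PicF.IsInvertible M → ∃ a : ℤ, Nonempty (M ≅ T a))
    {s : Coh.structureModule X ⟶ T 1} (hs : s ≠ 0)
    (S : ShortComplex X.Modules) (hS : S.ShortExact) (e₁ : S.X₁ ≅ Coh.structureModule X)
    (hE : Coh.IsCoh S.X₂) (hEf : FlatMod.IsFinLocFree S.X₂)
    (htf : TorSh.IsTorsionFree S.X₃) (hrk : rk S.X₃ = 1) (c : ℤ) (hc : 0 < c)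
    (hα : alpha (n - 1) (hp k (T 1) S.X₃) = alpha (n - 1) (hp k (T 1) (T c)))
    (hvan : ∀ t : T 1 ⟶ S.X₃, t = 0) : IsMuStable k X (T 1) S.X₂ n := by
  have := Groth.Agent.Fga.SnapperTwist.isNoetherian_of_proper k X
  have hnorm := isIntegrallyClosed_of_regular hreg
  have := hS.mono_f
  have := hS.epi_g
  have hO : Coh.IsCoh (Coh.structureModule X) := isCoh_structureModule
  have h1c : Coh.IsCoh S.X₁ := Groth.Agent.PerfA.CohSerre.isCoh_of_iso e₁.symm hO
  have h3c : Coh.IsCoh S.X₃ := by
    have h := Groth.Agent.PerfA.CohSerre.isCoh_cokernel S.f h1c.1 hE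
    exact Groth.Agent.PerfA.CohSerre.isCoh_of_iso (IsColimit.coconePointUniqueUpToIso hS.gIsCokernel (cokernelIsCokernel S.f)).symm h
  have hEt : TorSh.IsTorsionFree S.X₂ := isTorsionFree_of_isFinLocFree hEf
  have hEr : rk S.X₂ = 2 := by
    have h2 := rk_shortExact hS hE
    rw [rk_iso e₁, rk_structureModule, hrk] at h2
    exact h2
  have hpos := alpha_O_pos k hL hn
  have hcT := alpha_T k hT hmul h0 hn h1 c
  have hV1 : alpha (n - 1) (hp k (T 1) S.X₂) = 2 * alpha (n - 1) (hp k (T 1) (Coh.structureModule X)) +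
      c * alpha n (hp k (T 1) (Coh.structureModule X)) := by
    have h2 := hp_add k hL.1 hS h1c hE h3c
    rw [h2, alpha_add, hα, hcT, hp_iso k hL.1 hO e₁.symm]
    ring
  have hcq : (0 : ℚ) < c := by exact_mod_cast hc
  refine isMuStable_of k hL hn hE hEt (by omega) ?_
  intro F f hf hF hF0 hF1
  have hFr : rk F = 1 := by omega
  have hFt : TorSh.IsTorsionFree F := isTorsionFree_of_mono f hEt
  rw [hFr, hEr, hV1]
  push_cast
  have hcp : 0 < (c : ℚ) * alpha n (hp k (T 1) (Coh.structureModule X)) := mul_pos hcq hpos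
  rcases eq_zero_or_mono hF hFt hFr h3c htf (f ≫ S.g) with h0' | hm
  · let l := hS.exact.lift f h0'
    have hl : l ≫ S.f = f := hS.exact.lift_f f h0'
    have : Mono (l ≫ S.f) := by rw [hl]; exact hf
    have : Mono l := mono_of_mono l S.f
    have h2 := alpha_pred_le k hL hn l hF h1c (by rw [hFr, rk_iso e₁, rk_structureModule])
    rw [hp_iso k hL.1 hO e₁.symm] at h2
    linarith
  · obtain ⟨M, hM, φ, U, hφ, hU, hbij, hcod⟩ := exists_hull hreg hF hFt hFr
    obtain ⟨ψ, hψ⟩ := exists_factor hnorm hU φ hbij hE hEf f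
    have hψ0 : ψ ≫ S.g ≠ 0 := by
      intro h2
      have h3 : f ≫ S.g = 0 := by rw [← hψ, Category.assoc, h2, Limits.comp_zero]
      have h4 : IsZero F := by
        rw [IsZero.iff_id_eq_zero, ← cancel_mono (f ≫ S.g), h3]
        simp
      exact not_isZero_of_rk (E := F) (by omega) h4
    have hψm : Mono (ψ ≫ S.g) := (eq_zero_or_mono (isCoh_of_isInvertible hM) (isTorsionFree_of_isInvertible hM)
      (rk_structureModule_of_isInvertible hM) h3c htf (ψ ≫ S.g)).resolve_left hψ0
    obtain ⟨a, ⟨e⟩⟩ := hPic M hM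
    have ha : a ≤ 0 := by
      by_contra hcon
      obtain ⟨m, hm⟩ : ∃ m : ℕ, a = 1 + m := ⟨(a - 1).toNat, by omega⟩
      subst hm
      obtain ⟨g, hg⟩ := exists_mono_T hT hmul hs m 1
      have h2 : Mono (g ≫ e.inv ≫ ψ ≫ S.g) := mono_comp' hg (mono_comp' inferInstance hψm)
      have h3 := hvan (g ≫ e.inv ≫ ψ ≫ S.g)
      have h4 : IsZero (T 1) := by
        rw [IsZero.iff_id_eq_zero, ← cancel_mono (g ≫ e.inv ≫ ψ ≫ S.g), h3]
        simp
      exact not_isZero_of_isInvertible (hT 1) h4
    have h2 := alpha_pred_eq k hL.1 hn φ hF (isCoh_of_isInvertible hM) hcod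
    rw [← hp_iso k hL.1 (isCoh_of_isInvertible hM) e] at h2
    rw [h2, alpha_T k hT hmul h0 hn h1 a]
    have h3 : (a : ℚ) ≤ 0 := by exact_mod_cast ha
    have h4 : (a : ℚ) * alpha n (hp k (T 1) (Coh.structureModule X)) ≤ 0 :=
      mul_nonpos_of_nonpos_of_nonneg h3 hpos.le
    linarith

end Main

end K114.Twists
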