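import Groth.Agent.ShStab.K114.Twists
import Groth.Agent.VBCurve.K706.HomFin
import Groth.Agent.CycB.PushStalk
import Mathlib.LinearAlgebra.Eigenspace.Triangularizable

/-!
# Vanishing of `H¹` of negative powers of the generator of the Picard group, from the shape of `χ`
-/

set_option autoImplicit false
universe u
open CategoryTheory CategoryTheory.Limits AlgebraicGeometry Opposite TopologicalSpace Polynomial

namespace K114.Van

open Groth.Agent.Fga.PicMon Groth.Agent
open ShStab StabCat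
open Groth.Agent.CycB.StalkExact Groth.Agent.Divis.StalkMod
open K848.Rank K848.Hull K848.Poly K848.HB K848.TF K848.Dim K848.Stab K848.Hartogs K848.PicOne K848.Extn K848.Hull2
open K114.Twists

section Comm

variable {X : Scheme.{u}}

/-- quotients of the structure sheaf: relations are killed by every map from the structure sheaf -/
theorem comp_eq_zero_of_epi {M C : X.Modules} (σ : M ⟶ Coh.structureModule X) (π : Coh.structureModule X ⟶ C)
    (w : σ ≫ π = 0) [Epi π] (t : Coh.structureModule X ⟶ C) : σ ≫ t = 0 := by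
  ext U s
  change (σ ≫ t).app U s = 0
  refine Groth.Agent.VarietyB.ExactLoc.eq_zero_of_germ _ fun x hx => ?_
  rw [← stalkLin_germ, stalkLin_comp, LinearMap.comp_apply]
  generalize M.presheaf.germ U x hx s = m
  let u := Groth.Agent.CycB.PushStalk.unitStalk X x
  obtain ⟨r, hr⟩ := u.surjective (stalkLin σ x m)
  obtain ⟨g, hg⟩ := stalkLin_surjective π x (stalkLin t x (u 1))
  obtain ⟨r', rfl⟩ := u.surjective g
  have h1 : ∀ a : X.presheaf.stalk x, u a = a • u 1 := fun a => by
    rw [← map_smul, smul_eq_mul, mul_one]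
  have h2 : stalkLin π x (stalkLin σ x m) = 0 := by
    rw [← LinearMap.comp_apply, ← stalkLin_comp, w, Groth.Agent.Dcoh.StalkMod.stalkLin_zero]
    rfl
  rw [← hr, h1, map_smul, ← hg, h1 r', map_smul, smul_comm, ← map_smul (stalkLin π x) r, ← h1, hr, h2, smul_zero]

theorem exists_endo {M C : X.Modules} (σ : M ⟶ Coh.structureModule X) (π : Coh.structureModule X ⟶ C)
    (w : σ ≫ π = 0) (hS : (ShortComplex.mk σ π w).ShortExact) (t : Coh.structureModule X ⟶ C) :
    ∃ τ : C ⟶ C, π ≫ τ = t := by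
  have := hS.epi_g
  exact ⟨hS.gIsCokernel.desc (CokernelCofork.ofπ t (comp_eq_zero_of_epi σ π w t)),
    hS.gIsCokernel.fac _ WalkingParallelPair.one⟩

end Comm

section Scalar

variable (k : Type u) [Field k] [IsAlgClosed k] {X : Scheme.{u}} [X.Over (Spec (CommRingCat.of k))]
  [IsProper (X ↘ Spec (CommRingCat.of k))]

/-- if every endomorphism is zero or mono, then endomorphisms are scalars -/
theorem exists_scalar {C : X.Modules} (hC : Coh.IsCoh C) {π : Coh.structureModule X ⟶ C} (hπ : π ≠ 0)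
    (H : ∀ τ : C ⟶ C, τ = 0 ∨ Mono τ) (τ : C ⟶ C) : ∃ a : k, τ = a • 𝟙 C := by
  have := Groth.Agent.S0002.result k X C hC 0
  have hfin := K706.HomFin.finite_unit_hom k C
  have : Nontrivial (Coh.structureModule X ⟶ C) := ⟨⟨π, 0, hπ⟩⟩
  obtain ⟨a, ha⟩ := Module.End.exists_eigenvalue (Linear.rightComp k (Coh.structureModule X) τ)
  obtain ⟨y, hy⟩ := ha.exists_hasEigenvector
  have hy1 : y ≫ τ = a • y := hy.apply_eq_smul
  refine ⟨a, ?_⟩
  have h1 : y ≫ (τ - a • 𝟙 C) = 0 := by
    rw [Preadditive.comp_sub, hy1, Linear.comp_smul, Category.comp_id, sub_self]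
  rcases H (τ - a • 𝟙 C) with h | h
  · exact sub_eq_zero.1 h
  · exact absurd ((cancel_mono (τ - a • 𝟙 C)).1 (h1.trans zero_comp.symm)) hy.2

end Scalar

theorem arith {c e α AO AI AK AD AC AT A1 A2 EO EI ED EC ET E1 E2 : ℚ} {m j1 j2 : ℤ}
    (hα : 0 < α) (hc : 0 < c) (ha1 : A1 = AO + j1 * α) (ha2 : A2 = AO + j2 * α) (hb1 : E1 ≤ c * j1 ^ 2 + e)
    (hb2 : E2 ≤ c * j2 ^ 2 + e) (hle1 : A1 ≤ AO) (hle2 : AT ≤ A1) (hTm : AT = AO + ((-m : ℤ) : ℚ) * α) (hA1 : AI ≠ 0)
    (hA2 : AK ≠ 0) (f1 : AO = A1 + AI) (f2 : AO = A2 + AD) (f3 : AC = AK + AI) (f4 : AC = AI + AD)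
    (f5 : AO = AT + AC) (g1 : EO = E1 + EI) (g2 : EO = E2 + ED) (g4 : EC = EI + ED) (g5 : EO = ET + EC)
    (hO0 : EO = e) (hTm0 : ET = c * ((-m : ℤ) : ℚ) ^ 2 + e) : False := by
  push_cast at hTm hTm0
  have hj1 : (j1 : ℚ) ≤ 0 := by
    by_contra h
    have : 0 < (j1 : ℚ) * α := mul_pos (not_le.1 h) hα
    linarith
  have hj2 : -(m : ℚ) ≤ j1 := by
    by_contra h
    have : (j1 : ℚ) * α < -(m : ℚ) * α := mul_lt_mul_of_pos_right (not_le.1 h) hα
    linarith
  have hj3 : (j1 : ℚ) ≠ 0 := by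
    intro h
    rw [h] at ha1
    exact hA1 (by linarith)
  have hj4 : (j1 : ℚ) ≠ -m := by
    intro h
    rw [h] at ha1
    exact hA2 (by linarith)
  have hj5 : (j1 : ℚ) + j2 = -m := by
    have h6 : ((j1 : ℚ) + j2) * α = (-m) * α := by linarith
    exact mul_right_cancel₀ hα.ne' h6
  have hj6 : c * (m : ℚ) ^ 2 ≤ c * ((j1 : ℚ) ^ 2 + (j2 : ℚ) ^ 2) := by
    have : c * (-(m : ℚ)) ^ 2 = c * (m : ℚ) ^ 2 := by ring
    linarith
  have hj7 : (m : ℚ) ^ 2 ≤ (j1 : ℚ) ^ 2 + (j2 : ℚ) ^ 2 := le_of_mul_le_mul_left hj6 hc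
  have hj8 : (j1 : ℚ) < 0 := lt_of_le_of_ne hj1 hj3
  have hj9 : -(m : ℚ) < j1 := lt_of_le_of_ne hj2 (Ne.symm hj4)
  have hj10 : (j2 : ℚ) < 0 := by linarith
  have hj11 := mul_pos_of_neg_of_neg hj8 hj10
  nlinarith

section Num

variable (k : Type u) [Field k] {X : Scheme.{u}} [X.Over (Spec (CommRingCat.of k))]
  [IsProper (X ↘ Spec (CommRingCat.of k))] [IsIntegral X]

omit [IsIntegral X] in
/-- a coherent module in codimension two contributes a nonnegative constant -/
theorem eval_nonneg {L : X.Modules} (hL : CohB1.IsAmple L) (hn : topologicalKrullDim X = ((2 : ℕ) : WithBot ℕ∞))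
    {Q : X.Modules} (hQ : Coh.IsCoh Q)
    (h : ∀ x ∈ CohB1.support Q, (2 : WithBot ℕ∞) ≤ ringKrullDim (X.presheaf.stalk x)) :
    0 ≤ (hp k L Q).eval 0 := by
  have := Groth.Agent.Fga.SnapperTwist.isNoetherian_of_proper k X
  have h1 := topologicalKrullDim_lt_of_two hn (Groth.Agent.S0020.result X Q hQ.2) h
  have h2 := natDegree_hp_le k hL.1 hQ (d := 0)
    (Groth.Agent.Fga.IntNum0.withBot_le_of_lt_succ (by exact_mod_cast h1))
  have h3 := hp_nonneg k hL hQ
  rw [polyLE_iff, sub_zero] at h3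
  have h4 := coeff_nonneg h2 h3
  rwa [coeff_zero_eq_eval_zero] at h4

omit [IsIntegral X] in
theorem isZero_of_hp {L : X.Modules} (hL : CohB1.IsAmple L) {K : X.Modules} (hK : Coh.IsCoh K)
    (h : hp k L K = 0) : IsZero K := by
  by_contra h0
  have h1 := hp_pos k hL hK h0
  rw [h, polyLT_iff] at h1
  simp at h1

variable {T : ℤ → X.Modules} (hT : ∀ a, PicF.IsInvertible (T a))
  (hmul : ∀ a b, mc (T a) * mc (T b) = mc (T (a + b))) (h0 : mc (T 0) = 1)
  (hL : CohB1.IsAmple (T 1)) (hn : topologicalKrullDim X = ((2 : ℕ) : WithBot ℕ∞))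
  (hreg : ∀ x : X, IsRegularLocalRing (X.presheaf.stalk x))

include hT hL hn hreg in
/-- a mono from an invertible module to a torsion-free module of rank one with the same subtop coefficient is iso -/
theorem isIso_of_alpha {a : ℤ} {F : X.Modules} (hF : Coh.IsCoh F) (htf : TorSh.IsTorsionFree F) (hr : rk F = 1)
    (t : T a ⟶ F) [Mono t] (h : alpha 1 (hp k (T 1) F) ≤ alpha 1 (hp k (T 1) (T a))) : IsIso t := by
  have := Groth.Agent.Fga.SnapperTwist.isNoetherian_of_proper k X
  have hTc := isCoh_of_isInvertible (hT a)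
  have h5 := codim_of_alpha_pred_eq k hL hn t hTc hF
    (by rw [hr, rk_structureModule_of_isInvertible (hT a)]) h
  obtain ⟨ψ, hψ⟩ := exists_factor (isIntegrallyClosed_of_regular hreg) (big_cokOpen hTc hF t h5) t
    (bijective_cokOpen hTc hF t) hTc (isFinLocFree_of_isInvertible (hT a)) (𝟙 (T a))
  have hψ0 : ψ ≠ 0 := by
    rintro rfl
    rw [Limits.comp_zero] at hψ
    exact not_isZero_of_isInvertible (hT a) ((IsZero.iff_id_eq_zero _).2 hψ.symm)
  have hψm : Mono ψ := (eq_zero_or_mono hF htf hr hTc (isTorsionFree_of_isInvertible (hT a)) ψ).resolve_left hψ0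
  have : IsSplitEpi ψ := ⟨⟨⟨t, hψ⟩⟩⟩
  have : IsIso ψ := isIso_of_mono_of_isSplitEpi ψ
  have h6 : t = inv ψ := by
    rw [← cancel_mono ψ, hψ, IsIso.inv_hom_id]
  rw [h6]
  infer_instance

variable (hPic : ∀ M : X.Modules, PicF.IsInvertible M → ∃ a : ℤ, Nonempty (M ≅ T a))
  {c e : ℚ} (hχ : ∀ a : ℤ, (hp k (T 1) (T a)).eval 0 = c * a ^ 2 + e)

include hT hmul h0 hL hn hreg hPic hχ in
/-- numerical invariants of torsion-free modules of rank one -/
theorem exists_num {F : X.Modules} (hF : Coh.IsCoh F) (htf : TorSh.IsTorsionFree F) (hr : rk F = 1) :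
    ∃ j : ℤ, alpha 1 (hp k (T 1) F) = alpha 1 (hp k (T 1) (Coh.structureModule X)) +
        j * alpha 2 (hp k (T 1) (Coh.structureModule X)) ∧ (hp k (T 1) F).eval 0 ≤ c * j ^ 2 + e := by
  have := Groth.Agent.Fga.SnapperTwist.isNoetherian_of_proper k X
  obtain ⟨M, hM, φ, U, hφ, hU, hbij, hcod⟩ := exists_hull hreg hF htf hr
  obtain ⟨j, ⟨i⟩⟩ := hPic M hM
  have hMc := isCoh_of_isInvertible hM
  have h1 := alpha_pred_eq k hL.1 hn φ hF hMc hcod
  have hc := Groth.Agent.PerfA.CohSerre.isCoh_cokernel φ hF.1 hMc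
  have hS : (ShortComplex.mk φ (cokernel.π φ) (cokernel.condition φ)).ShortExact :=
    { exact := ShortComplex.exact_cokernel φ, mono_f := inferInstance, epi_g := inferInstance }
  have h2 := hp_add k hL.1 hS hF hMc hc
  dsimp only at h2
  have h3 := eval_nonneg k hL hn hc hcod
  have h4 : hp k (T 1) (T j) = hp k (T 1) M := hp_iso k hL.1 hMc i
  refine ⟨j, ?_, ?_⟩
  · have h5 := alpha_T k hT hmul h0 hn one_le_two j
    rw [h4] at h5
    exact h1.trans h5
  · rw [← hχ, h4, h2, eval_add]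
    linarith

include hT hL hn hreg in
/-- purity of the quotient of the structure sheaf by an invertible ideal -/
theorem pure {a : ℤ} (σ : T a ⟶ Coh.structureModule X) {C : X.Modules} (hC : Coh.IsCoh C)
    (π : Coh.structureModule X ⟶ C) (w : σ ≫ π = 0) (hS : (ShortComplex.mk σ π w).ShortExact)
    {K : X.Modules} (hK : Coh.IsCoh K) (κ : K ⟶ C) [Mono κ] (h : alpha 1 (hp k (T 1) K) = 0) : IsZero K := by
  have := Groth.Agent.Fga.SnapperTwist.isNoetherian_of_proper k X
  have := hS.mono_f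
  have hπ : Epi π := hS.epi_g
  have hO : Coh.IsCoh (Coh.structureModule X) := isCoh_structureModule
  have hTc := isCoh_of_isInvertible (hT a)
  have hD := Groth.Agent.PerfA.CohSerre.isCoh_cokernel κ hK.1 hC
  let q := π ≫ cokernel.π κ
  have hq : Epi q := epi_comp' hπ inferInstance
  have hH : Coh.IsCoh (kernel q) := Groth.Agent.PerfA.CohSerre.isCoh_kernel q hO hD.1
  have hS1 : (ShortComplex.mk (kernel.ι q) q (kernel.condition q)).ShortExact :=
    { exact := ShortComplex.exact_kernel q, mono_f := inferInstance, epi_g := hq }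
  have hS2 : (ShortComplex.mk κ (cokernel.π κ) (cokernel.condition κ)).ShortExact :=
    { exact := ShortComplex.exact_cokernel κ, mono_f := inferInstance, epi_g := inferInstance }
  have e1 := hp_add k hL.1 hS1 hH hO hD
  have e2 := hp_add k hL.1 hS2 hK hC hD
  have e3 := hp_add k hL.1 hS hTc hO hC
  have r1 := rk_shortExact hS1 hO
  have r2 := rk_shortExact hS2 hC
  have r3 := rk_shortExact hS hO
  dsimp only at e1 e2 e3 r1 r2 r3
  rw [rk_structureModule] at r1 r3
  rw [rk_structureModule_of_isInvertible (hT a)] at r3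
  have e4 : hp k (T 1) (kernel q) = hp k (T 1) (T a) + hp k (T 1) K := by
    rw [e1, e2] at e3
    linear_combination e3
  let t : T a ⟶ kernel q := kernel.lift q σ (by rw [← Category.assoc, w, Limits.zero_comp])
  have ht : t ≫ kernel.ι q = σ := kernel.lift_ι _ _ _
  have : Mono (t ≫ kernel.ι q) := by rw [ht]; infer_instance
  have : Mono t := mono_of_mono t (kernel.ι q)
  have hi := isIso_of_alpha k hT hL hn hreg hH (isTorsionFree_of_mono (kernel.ι q)
    (isTorsionFree_of_isInvertible Groth.Agent.Fdesc.LocGen.isInvertible_structureModule)) (by omega) t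
    (by rw [e4, alpha_add, h, add_zero])
  have e5 : hp k (T 1) (kernel q) = hp k (T 1) (T a) := hp_iso k hL.1 hTc (asIso t)
  exact isZero_of_hp k hL hK (by rw [e5] at e4; linear_combination (-1 : ℚ[X]) * e4)

include hT hmul h0 hL hn hreg hPic hχ in
/-- endomorphisms of the quotient of the structure sheaf by an invertible ideal are zero or mono -/
theorem eq_zero_or_mono_endo (hc : 0 < c)
    (m : ℤ) (σ : T (-m) ⟶ Coh.structureModule X) {C : X.Modules} (hC : Coh.IsCoh C)
    (π : Coh.structureModule X ⟶ C) (w : σ ≫ π = 0) (hS : (ShortComplex.mk σ π w).ShortExact) (τ : C ⟶ C) :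
    τ = 0 ∨ Mono τ := by
  have := Groth.Agent.Fga.SnapperTwist.isNoetherian_of_proper k X
  have := hS.mono_f
  have hπ : Epi π := hS.epi_g
  have hO : Coh.IsCoh (Coh.structureModule X) := isCoh_structureModule
  have hOt := isTorsionFree_of_isInvertible (X := X) Groth.Agent.Fdesc.LocGen.isInvertible_structureModule
  have hTc := isCoh_of_isInvertible (hT (-m))
  by_contra hcon
  rw [not_or] at hcon
  obtain ⟨hτ0, hτm⟩ := hcon
  let p := Abelian.factorThruImage τ
  let i := Abelian.image.ι τ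
  have hpi : p ≫ i = τ := Abelian.image.fac τ
  have hI : Coh.IsCoh (Abelian.image τ) := Groth.Agent.Sga67.CohBasic.isCoh_image τ hC hC.1
  have hI0 : ¬ IsZero (Abelian.image τ) := fun h => hτ0 (by rw [← hpi, h.eq_of_tgt p 0, Limits.zero_comp])
  have hK : Coh.IsCoh (kernel p) := Groth.Agent.PerfA.CohSerre.isCoh_kernel p hC hI.1
  have hK0 : ¬ IsZero (kernel p) := fun h => hτm (by
    have h1 : Mono p := Preadditive.mono_of_kernel_zero (h.eq_of_src _ _)
    rw [← hpi]
    exact mono_comp' h1 inferInstance)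
  have hD : Coh.IsCoh (cokernel i) := Groth.Agent.PerfA.CohSerre.isCoh_cokernel i hI.1 hC
  let q1 := π ≫ p
  have hq1 : Epi q1 := epi_comp' hπ inferInstance
  let q2 := π ≫ cokernel.π i
  have hq2 : Epi q2 := epi_comp' hπ inferInstance
  have hJ1 : Coh.IsCoh (kernel q1) := Groth.Agent.PerfA.CohSerre.isCoh_kernel q1 hO hI.1
  have hJ2 : Coh.IsCoh (kernel q2) := Groth.Agent.PerfA.CohSerre.isCoh_kernel q2 hO hD.1
  have hS1 : (ShortComplex.mk (kernel.ι q1) q1 (kernel.condition q1)).ShortExact :=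
    { exact := ShortComplex.exact_kernel q1, mono_f := inferInstance, epi_g := hq1 }
  have hS2 : (ShortComplex.mk (kernel.ι q2) q2 (kernel.condition q2)).ShortExact :=
    { exact := ShortComplex.exact_kernel q2, mono_f := inferInstance, epi_g := hq2 }
  have hS3 : (ShortComplex.mk (kernel.ι p) p (kernel.condition p)).ShortExact :=
    { exact := ShortComplex.exact_kernel p, mono_f := inferInstance, epi_g := inferInstance }
  have hS4 : (ShortComplex.mk i (cokernel.π i) (cokernel.condition i)).ShortExact :=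
    { exact := ShortComplex.exact_cokernel i, mono_f := inferInstance, epi_g := inferInstance }
  have e1 := hp_add k hL.1 hS1 hJ1 hO hI
  have e2 := hp_add k hL.1 hS2 hJ2 hO hD
  have e3 := hp_add k hL.1 hS3 hK hC hI
  have e4 := hp_add k hL.1 hS4 hI hC hD
  have e5 := hp_add k hL.1 hS hTc hO hC
  have r1 := rk_shortExact hS1 hO
  have r2 := rk_shortExact hS2 hO
  have r4 := rk_shortExact hS4 hC
  have r5 := rk_shortExact hS hO
  dsimp only at e1 e2 e3 e4 e5 r1 r2 r4 r5
  rw [rk_structureModule] at r1 r2 r5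
  rw [rk_structureModule_of_isInvertible (hT (-m))] at r5
  have hr1 : rk (kernel q1) = 1 := by omega
  have hr2 : rk (kernel q2) = 1 := by omega
  obtain ⟨j1, ha1, hb1⟩ := exists_num k hT hmul h0 hL hn hreg hPic hχ hJ1 (isTorsionFree_of_mono (kernel.ι q1) hOt) hr1
  obtain ⟨j2, ha2, hb2⟩ := exists_num k hT hmul h0 hL hn hreg hPic hχ hJ2 (isTorsionFree_of_mono (kernel.ι q2) hOt) hr2
  -- the two bounds for `j1`
  have hle1 := alpha_pred_le k hL hn (kernel.ι q1) hJ1 hO (by rw [hr1, rk_structureModule])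
  let t : T (-m) ⟶ kernel q1 := kernel.lift q1 σ (by rw [← Category.assoc, w, Limits.zero_comp])
  have ht : t ≫ kernel.ι q1 = σ := kernel.lift_ι _ _ _
  have : Mono (t ≫ kernel.ι q1) := by rw [ht]; infer_instance
  have : Mono t := mono_of_mono t (kernel.ι q1)
  have hle2 := alpha_pred_le k hL hn t hTc hJ1 (by rw [hr1, rk_structureModule_of_isInvertible (hT (-m))])
  have hTm := alpha_T k hT hmul h0 hn one_le_two (-m)
  have hA1 : alpha 1 (hp k (T 1) (Abelian.image τ)) ≠ 0 := fun h =>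
    hI0 (pure k hT hL hn hreg σ hC π w hS hI i h)
  have hA2 : alpha 1 (hp k (T 1) (kernel p)) ≠ 0 := fun h =>
    hK0 (pure k hT hL hn hreg σ hC π w hS hK (kernel.ι p) h)
  have hα := alpha_O_pos k hL hn
  have f1 := (congrArg (alpha 1) e1).trans (alpha_add _ _ _)
  have f2 := (congrArg (alpha 1) e2).trans (alpha_add _ _ _)
  have f3 := (congrArg (alpha 1) e3).trans (alpha_add _ _ _)
  have f4 := (congrArg (alpha 1) e4).trans (alpha_add _ _ _)
  have f5 := (congrArg (alpha 1) e5).trans (alpha_add _ _ _)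
  have g1 := (congrArg (eval 0) e1).trans (eval_add)
  have g2 := (congrArg (eval 0) e2).trans (eval_add)
  have g4 := (congrArg (eval 0) e4).trans (eval_add)
  have g5 := (congrArg (eval 0) e5).trans (eval_add)
  have hO0 : (hp k (T 1) (Coh.structureModule X)).eval 0 = e := by
    have h5 := hχ 0
    obtain ⟨i0⟩ := (mc_eq_iff (T 0) (Coh.structureModule X)).1 (by rw [h0, mc_one])
    rw [hp_iso k hL.1 hO i0.symm] at h5
    rw [h5]
    simp
  exact arith hα hc ha1 ha2 hb1 hb2 hle1 hle2 hTm hA1 hA2 f1 f2 f3 f4 f5 g1 g2 g4 g5 hO0 (hχ (-m))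

end Num

section Final

variable (k : Type u) [Field k] [IsAlgClosed k] {X : Scheme.{u}} [X.Over (Spec (CommRingCat.of k))]
  [IsProper (X ↘ Spec (CommRingCat.of k))] [IsIntegral X]
  {T : ℤ → X.Modules} (hT : ∀ a, PicF.IsInvertible (T a))
  (hmul : ∀ a b, mc (T a) * mc (T b) = mc (T (a + b))) (h0 : mc (T 0) = 1)
  (hL : CohB1.IsAmple (T 1)) (hn : topologicalKrullDim X = ((2 : ℕ) : WithBot ℕ∞))
  (hreg : ∀ x : X, IsRegularLocalRing (X.presheaf.stalk x))
  (hPic : ∀ M : X.Modules, PicF.IsInvertible M → ∃ a : ℤ, Nonempty (M ≅ T a))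
  {c e : ℚ} (hχ : ∀ a : ℤ, (hp k (T 1) (T a)).eval 0 = c * a ^ 2 + e) (hc : 0 < c)

include hT hmul h0 hL hn hreg hPic hχ hc in
/-- vanishing of `H¹` of the dual of an effective invertible module -/
theorem subsingleton_h1_neg (hO1 : Subsingleton (Coh.HH X (Coh.structureModule X) 1)) (m : ℤ) (hm : 0 < m)
    {s : Coh.structureModule X ⟶ T m} (hs : s ≠ 0) : Subsingleton (Coh.HH X (T (-m)) 1) := by
  have := Groth.Agent.Fga.SnapperTwist.isNoetherian_of_proper k X
  have hO : Coh.IsCoh (Coh.structureModule X) := isCoh_structureModule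
  have hsm : Mono s := (eq_zero_or_mono hO (isTorsionFree_of_isInvertible
    Groth.Agent.Fdesc.LocGen.isInvertible_structureModule) rk_structureModule (isCoh_of_isInvertible (hT m))
    (isTorsionFree_of_isInvertible (hT m)) s).resolve_left hs
  obtain ⟨σ, hσ⟩ := exists_mono_tensor (M' := T (-m)) (N' := Coh.structureModule X) (hT (-m)) s
    (by rw [mc_one, one_mul]) (by rw [hmul, add_neg_cancel, h0, mc_one])
  have hTc := isCoh_of_isInvertible (hT (-m))
  have hC : Coh.IsCoh (cokernel σ) := Groth.Agent.PerfA.CohSerre.isCoh_cokernel σ hTc.1 hO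
  have hS : (ShortComplex.mk σ (cokernel.π σ) (cokernel.condition σ)).ShortExact :=
    { exact := ShortComplex.exact_cokernel σ, mono_f := hσ, epi_g := inferInstance }
  have hπ0 : cokernel.π σ ≠ 0 := by
    intro h
    have h1 : IsZero (cokernel σ) := by
      rw [IsZero.iff_id_eq_zero, ← cancel_epi (cokernel.π σ), h]
      simp
    have h2 := hp_add k hL.1 hS hTc hO hC
    dsimp only at h2
    rw [hp_isZero k hL.1 h1, add_zero] at h2
    have h3 := alpha_T k hT hmul h0 hn one_le_two (-m)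
    have h4 := alpha_O_pos k hL hn
    have h5 : (0 : ℚ) < m := by exact_mod_cast hm
    rw [← h2] at h3
    push_cast at h3
    have h6 := mul_pos h5 h4
    linarith
  have : HasExt.{u + 1} X.Modules := HasExt.standard _
  have := Groth.Agent.CurvesC.ExtUnit.enoughInjectives_modules X
  have h1 : ∀ x : Abelian.Ext.{u + 1} (Coh.structureModule X) (T (-m)) 1, x = 0 := by
    intro x
    have hx : x.comp (Abelian.Ext.mk₀ σ) (add_zero 1) = 0 :=
      (Groth.Agent.CurvesC.ExtUnit.extHH (Coh.structureModule X) 1).injective (Subsingleton.elim (h := hO1) _ _)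
    obtain ⟨y, rfl⟩ := Abelian.Ext.covariant_sequence_exact₁ _ hS x hx (zero_add 1)
    obtain ⟨y, rfl⟩ := (Abelian.Ext.mk₀_bijective _ _).2 y
    obtain ⟨τ, hτ⟩ := exists_endo σ (cokernel.π σ) _ hS y
    obtain ⟨a, ha⟩ := exists_scalar k hC hπ0
      (eq_zero_or_mono_endo k hT hmul h0 hL hn hreg hPic hχ hc m σ hC (cokernel.π σ) _ hS) τ
    have h2 : y = (a • 𝟙 (Coh.structureModule X)) ≫ cokernel.π σ := by
      rw [← hτ, ha, Linear.comp_smul, Category.comp_id, Linear.smul_comp, Category.id_comp]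
    rw [h2, ← Abelian.Ext.mk₀_comp_mk₀, Abelian.Ext.comp_assoc_of_second_deg_zero]
    have h3 := hS.comp_extClass
    dsimp at h3
    rw [h3, Abelian.Ext.comp_zero]
  have h2 : Subsingleton (Abelian.Ext.{u + 1} (Coh.structureModule X) (T (-m)) 1) :=
    ⟨fun a b => (h1 a).trans (h1 b).symm⟩
  exact (Groth.Agent.CurvesC.ExtUnit.extHH (T (-m)) 1).symm.injective.subsingleton

end Final

end K114.Van
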